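import Groth.Agent.Lib.SheafCoh.Push
import Groth.Agent.Lib.CechFree.Acyclic
import Mathlib.CategoryTheory.Limits.Preserves.Shapes.Over
import Mathlib.CategoryTheory.Limits.Constructions.FiniteProductsOfBinaryProducts

/-! # Restriction along a continuous functor whose pullback commutes with fibre products -/

set_option autoImplicit false
set_option linter.all false
set_option maxHeartbeats 800000
set_option backward.isDefEq.respectTransparency false
set_option backward.isDefEq.respectTransparency.types false
universe u

open CategoryTheory CategoryTheory.Limits Opposite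

noncomputable section

namespace GrothLib.AcycRestr25

section

variable {A B : Type*} [Category A] [Category B] [HasFiniteLimits A] [HasFiniteLimits B] (P : A ⥤ B)
  [PreservesLimitsOfShape WalkingCospan P]

theorem preservesFiniteProducts_post (K : A) : PreservesFiniteProducts (Over.post P (X := K)) := by
  have : PreservesLimitsOfShape (WithTerminal (Discrete WalkingPair)) P :=
    PreservesLimitsOfShape.ofWidePullbacks
  have : PreservesLimitsOfShape (Discrete WalkingPair) (Over.post P (X := K)) := inferInstance
  have : PreservesLimit (Functor.empty.{0} (Over K)) (Over.post P) :=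
    preservesTerminal_of_iso (Over.post P (X := K))
      ((Over.post P).mapIso (Limits.terminalIsTerminal.uniqueUpToIso Over.mkIdTerminal) ≪≫
        (eqToIso (show (Over.post P).obj (Over.mk (𝟙 K)) = Over.mk (𝟙 (P.obj K)) from congrArg Over.mk (P.map_id K))) ≪≫
        (Over.mkIdTerminal.uniqueUpToIso Limits.terminalIsTerminal))
  have : PreservesLimitsOfShape (Discrete PEmpty.{1}) (Over.post P (X := K)) :=
    preservesLimitsOfShape_pempty_of_preservesTerminal _
  have : HasFiniteProducts (Over K) := hasFiniteProducts_of_has_binary_and_terminal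
  exact PreservesFiniteProducts.of_preserves_binary_and_terminal _

variable {L K : A} (f : L ⟶ K) (ι : Type) [Finite ι]

/-- The fibre power of an arrow, over the base. -/
def wFan : Fan (fun _ : ι => Over.mk f) :=
  Fan.mk (Over.mk (WidePullback.base fun _ : ι => f)) fun i =>
    Over.homMk (WidePullback.π (fun _ : ι => f) i) (WidePullback.π_arrow _ i)

/-- It is a product over the base. -/
def isLimit_wFan : IsLimit (wFan f ι) :=
  mkFanLimit _ (fun s => Over.homMk (WidePullback.lift s.pt.hom (fun i => (s.proj i).left) fun i => Over.w (s.proj i))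
      (WidePullback.lift_base ..))
    (fun s i => Over.OverMorphism.ext (WidePullback.lift_π ..))
    (fun s m hm => Over.OverMorphism.ext (WidePullback.hom_ext _ _ _
      (fun i => (congrArg Over.Hom.left (hm i)).trans (WidePullback.lift_π (fun _ : ι => f) s.pt.hom (fun i => (s.proj i).left) (fun i => Over.w (s.proj i)) i).symm)
      ((Over.w m).trans (WidePullback.lift_base ..).symm)))

/-- The comparison of fibre powers. -/
def cmp : P.obj (widePullback K (fun _ : ι => L) fun _ => f) ⟶
    widePullback (P.obj K) (fun _ : ι => P.obj L) fun _ => P.map f :=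
  WidePullback.lift (P.map (WidePullback.base _)) (fun i => P.map (WidePullback.π _ i))
    (fun i => by rw [← P.map_comp, WidePullback.π_arrow])

theorem isIso_cmp : IsIso (cmp P f ι) := by
  have := preservesFiniteProducts_post P K
  have : Fintype ι := Fintype.ofFinite ι
  have : PreservesLimitsOfShape (Discrete ι) (Over.post P (X := K)) := inferInstance
  let h := isLimitFanMkObjOfIsLimit (Over.post P (X := K)) (fun _ : ι => Over.mk f) _ (isLimit_wFan f ι)
  let e := h.conePointUniqueUpToIso (isLimit_wFan (P.map f) ι)
  have he : cmp P f ι = ((Over.forget _).mapIso e).hom := by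
    refine WidePullback.hom_ext _ _ _ (fun i => ?_) ?_
    · rw [cmp, WidePullback.lift_π]
      exact (congrArg Over.Hom.left (h.conePointUniqueUpToIso_hom_comp (isLimit_wFan (P.map f) ι) ⟨i⟩)).symm
    · rw [cmp, WidePullback.lift_base]
      exact (Over.w e.hom).symm
  rw [he]
  infer_instance

/-- `P` commutes with Čech nerves. -/
def nerveIso : (Arrow.mk f).cechNerve ⋙ P ≅ (Arrow.mk (P.map f)).cechNerve :=
  NatIso.ofComponents
    (fun n => haveI := isIso_cmp P f (Fin (n.unop.len + 1)); asIso (cmp P f (Fin (n.unop.len + 1))))
    (fun {m n} g => by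
      refine WidePullback.hom_ext _ _ _ (fun i => ?_) ?_
      · simp only [Functor.comp_map, asIso_hom, Category.assoc, Arrow.cechNerve_map]
        rw [cmp, cmp, WidePullback.lift_π]
        erw [WidePullback.lift_π, WidePullback.lift_π, ← P.map_comp]
        congr 1
        exact WidePullback.lift_π _ _ _ _ _
      · simp only [Functor.comp_map, asIso_hom, Category.assoc, Arrow.cechNerve_map]
        rw [cmp, cmp, WidePullback.lift_base]
        erw [WidePullback.lift_base, WidePullback.lift_base, ← P.map_comp]
        congr 1
        exact WidePullback.lift_base _ _ _ _)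

end

section

variable {C : Type u} [SmallCategory C] {K : GrothendieckTopology C}
  {D : Type u} [SmallCategory D] {J : GrothendieckTopology D} (u : C ⥤ D) [u.IsContinuous K J]

/-- Degree zero cohomology on a sheaf of sets of a restriction. -/
def hk0Iso (F : Sheaf J AddCommGrpCat.{u}) :
    CohCx.HK0Functor K ((CohSite.push J K u).obj F) ≅
      (u.sheafPullback (Type u) K J).op ⋙ CohCx.HK0Functor J F :=
  let adj := u.sheafAdjunctionContinuous AddCommGrpCat.{u} K J
  have : (u.sheafPullback AddCommGrpCat.{u} K J).Additive := adj.left_adjoint_additive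
  NatIso.ofComponents
    (fun L => ((adj.homAddEquiv ((CechFree.free K).obj L.unop) F).symm.trans
      (AddEquiv.mk' (((SheafCoh.pullbackFreeIso K u).app L.unop).homCongr (Iso.refl F))
        (fun a b => by simp [Iso.homCongr]))).toAddCommGrpIso)
    (fun {L L'} g => by
      ext x
      refine (congrArg (fun t => ((SheafCoh.pullbackFreeIso K u).inv.app L'.unop ≫ t) ≫ 𝟙 F)
        (adj.homEquiv_naturality_left_symm ((CechFree.free K).map g.unop) x)).trans ?_
      simp only [Category.comp_id]
      refine (Category.assoc _ _ _).symm.trans ((congrArg (· ≫ _)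
        ((SheafCoh.pullbackFreeIso K u).inv.naturality g.unop).symm).trans (Category.assoc _ _ _))
      )

theorem isTotallyAcyclic_restrict (h : PreservesLimitsOfShape WalkingCospan (u.sheafPullback (Type u) K J))
    (F : Sheaf J AddCommGrpCat.{u}) (hF : CohCx.IsTotallyAcyclic F) :
    CohCx.IsTotallyAcyclic ((CohSite.push J K u).obj F) := by
  refine CechFree.isTotallyAcyclic_of_cechVanish _ ((CechFree.cechVanish_iff _).2 fun L' L f hf q => ?_)
  let P := u.sheafPullback (Type u) K J
  have : P.IsLeftAdjoint := (u.sheafAdjunctionContinuous (Type u) K J).isLeftAdjoint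
  have : Epi (P.map f) := P.map_epi f
  let N := (Arrow.mk f).cechNerve
  let e : N.rightOp ⋙ CohCx.HK0Functor K ((CohSite.push J K u).obj F) ≅
      (Arrow.mk (P.map f)).cechNerve.rightOp ⋙ CohCx.HK0Functor J F :=
    Functor.isoWhiskerLeft N.rightOp (hk0Iso u F) ≪≫
      Functor.isoWhiskerRight (NatIso.ofComponents (fun n => ((nerveIso P f).app (op n)).op.symm)
        (fun {a b} g => by
          apply Quiver.Hom.unop_inj
          exact ((nerveIso P f).inv.naturality g.op).symm) : N.rightOp ⋙ P.op ≅ (Arrow.mk (P.map f)).cechNerve.rightOp)
        (CohCx.HK0Functor J F)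
  exact ((CechFree.cechVanish_iff F).1 (CechFree.cechVanish_of_totallyAcyclic F hF) _ _ (P.map f) inferInstance q).of_iso
    ((HomologicalComplex.homologyFunctor _ _ (q + 1)).mapIso
      ((AlgebraicTopology.alternatingCofaceMapComplex AddCommGrpCat.{u}).mapIso e))

end

end GrothLib.AcycRestr25
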